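import Cfsg.Statements.S5939
import Cfsg.Agent.H6.Max

set_option autoImplicit false
open Cfsg

namespace Cfsg.Agent.S5939

open Cfsg.Agent.H6 Cfsg.Agent.H6.Pg


/-- Let p be a prime and F a finite field of characteristic p such that either F has p elements and p ≡ ±1 (mod 10), or F has p² elements and p ≡ ±3 (mod 10). Then PSL_2(F) has a maximal subgroup isomorphic to the alternating group A_5. -/
theorem result {F : Type*} [Field F] [Fintype F] (p : ℕ) [Fact p.Prime] [CharP F p] (h : (Fintype.card F = p ∧ (p % 10 = 1 ∨ p % 10 = 9)) ∨ (Fintype.card F = p ^ 2 ∧ (p % 10 = 3 ∨ p % 10 = 7))) : ∃ H : Subgroup (Matrix.ProjectiveSpecialLinearGroup (Fin 2) F), IsCoatom H ∧ Nonempty (H ≃* alternatingGroup (Fin 5)) := by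
  rw [← Nat.card_eq_fintype_card] at h
  have hp2 : p ≠ 2 := by omega
  have h2 := (Fact.out : p.Prime).two_le
  have hq : 7 ≤ Nat.card F ∧ (Nat.card F % 5 = 1 ∨ Nat.card F % 5 = 4) := by
    rcases h with h | ⟨h, h'⟩
    · omega
    · have : 3 * 3 ≤ p * p := Nat.mul_le_mul (by omega) (by omega)
      refine ⟨by rw [h, sq]; omega, Or.inr ?_⟩
      rw [h, Nat.pow_mod]
      rcases (by omega : p % 5 = 3 ∨ p % 5 = 2) with e | e <;> rw [e]
  obtain ⟨D⟩ := QD.nonempty ((FF.odd_iff (F := F) p).2 hp2)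
  obtain ⟨φ, hφ⟩ := exists_golden (F := F) (by omega) (by
    rw [Nat.prime_five.dvd_mul, Nat.prime_five.dvd_mul]; omega)
  obtain ⟨h1, h2⟩ := covBy_of (D.Ico_le_S hφ) (D.not_S_le_Ico hφ hq.1) fun N hN _ =>
    A5_or p (h.imp_left And.left) hp2 D.a4d (hN (D.i_mem_Ico φ)) (hN (D.b_mem_Ico φ))
      (hN (D.c_mem_Ico φ)) (D.order_c hφ)
  exact exists_psl h1 h2

end Cfsg.Agent.S5939
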