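import Cfsg.Statements.S0693
import Cfsg.Agent.H2.Regular2

set_option autoImplicit false
open Cfsg

namespace Cfsg.Agent.S0693

/-- The generators. -/
def gens : ℕ → ℕ × ℕ × ℕ × ℕ
  | 0 => (0,58,1,0)
  | _ => (9,15,49,49)

/-- All elements. -/
def elts : List (ℕ × ℕ × ℕ × ℕ) :=
  [(1,0,0,1), (0,58,1,0), (9,15,49,49), (58,0,0,58), (15,50,49,10), (10,10,9,15), (49,44,10,9),
  (0,1,58,0), (50,44,10,10), (10,49,15,50), (44,10,9,49), (48,20,46,45), (49,50,49,44),
  (44,9,10,49), (49,49,50,44), (10,15,49,50), (20,11,45,13), (50,10,44,10), (13,14,48,20),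
  (1,29,4,58), (55,48,23,4), (49,10,44,9), (15,49,50,10), (11,39,13,14), (10,9,10,15),
  (14,46,20,11), (29,58,58,55), (48,4,4,36), (11,13,39,14), (55,1,1,29), (36,55,55,48),
  (14,20,46,11), (39,48,14,46), (9,49,15,49), (46,45,11,39), (58,30,55,1), (4,11,36,55),
  (13,48,14,20), (1,4,29,58), (55,23,48,4), (20,45,11,13), (35,32,31,25), (38,31,30,54),
  (28,35,34,32), (45,13,39,48), (30,1,1,4), (11,55,55,23), (48,46,20,45), (4,58,58,30), (23,4,4,11),
  (45,39,13,48), (32,24,25,28), (31,21,54,29), (35,31,32,25), (28,34,35,32), (29,5,38,31),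
  (25,27,28,35), (54,28,29,38), (46,11,45,39), (58,55,30,1), (4,36,11,55), (39,14,48,46),
  (24,27,28,34), (21,28,29,5), (31,24,25,27), (34,31,32,24), (5,30,31,21), (27,34,35,31),
  (28,5,38,30), (10,19,19,48), (5,38,38,53), (30,21,54,28), (27,35,34,31), (28,38,5,30),
  (24,28,27,34), (31,25,24,27), (30,54,21,28), (34,32,31,24), (5,31,30,21), (19,49,48,40),
  (38,54,53,21), (21,29,28,5), (40,11,10,19), (21,6,5,38), (25,16,42,34), (18,19,45,41),
  (25,28,27,35), (54,29,28,38), (32,25,24,28), (31,54,21,29), (49,40,40,11), (54,21,21,6),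
  (29,38,5,31), (11,19,19,49), (6,38,38,54), (16,34,34,17), (19,41,41,14), (38,30,31,54),
  (17,25,25,16), (14,18,18,19), (40,10,11,19), (21,5,6,38), (19,48,49,40), (38,53,54,21),
  (34,43,17,25), (41,40,14,18), (25,42,16,34), (18,45,19,41), (40,18,18,45), (56,52,52,3),
  (42,34,34,43), (48,40,40,10), (53,21,21,5), (43,25,25,42), (45,41,41,40), (52,3,3,7),
  (34,17,43,25), (41,14,40,18), (7,56,56,52), (3,7,7,56)]

/-- Words reaching the vectors. -/
def words : List (List ℕ) :=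
  [[], [0], [1], [1,0], [0,1], [1,1], [0,1,0], [1,1,0], [1,0,1], [0,1,1], [1,0,1,0], [0,1,1,0],
  [0,1,0,1], [1,1,0,1], [1,0,1,1], [0,1,0,1,0], [1,1,0,1,0], [1,0,1,1,0], [1,0,1,0,1], [0,1,1,0,1],
  [0,1,0,1,1], [1,1,0,1,1], [1,0,1,0,1,0], [0,1,1,0,1,0], [0,1,0,1,1,0], [1,1,0,1,1,0],
  [1,1,0,1,0,1], [1,0,1,1,0,1], [1,0,1,0,1,1], [1,1,0,1,0,1,0], [1,0,1,1,0,1,0], [1,0,1,0,1,1,0],
  [0,1,1,0,1,0,1], [0,1,0,1,1,0,1], [1,1,0,1,1,0,1], [1,1,0,1,0,1,1], [0,1,1,0,1,0,1,0],
  [0,1,0,1,1,0,1,0], [1,1,0,1,1,0,1,0], [1,1,0,1,0,1,1,0], [1,0,1,1,0,1,0,1], [1,0,1,0,1,1,0,1],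
  [0,1,1,0,1,0,1,1], [1,0,1,1,0,1,0,1,0], [1,0,1,0,1,1,0,1,0], [0,1,1,0,1,0,1,1,0],
  [0,1,0,1,1,0,1,0,1], [1,1,0,1,1,0,1,0,1], [1,1,0,1,0,1,1,0,1], [1,0,1,1,0,1,0,1,1],
  [0,1,0,1,1,0,1,0,1,0], [1,1,0,1,1,0,1,0,1,0], [1,1,0,1,0,1,1,0,1,0], [1,0,1,1,0,1,0,1,1,0],
  [0,1,1,0,1,0,1,1,0,1], [0,1,0,1,1,0,1,0,1,1], [0,1,1,0,1,0,1,1,0,1,0], [0,1,0,1,1,0,1,0,1,1,0],
  [1,0,1,1,0,1,0,1,1,0,1], [1,0,1,1,0,1,0,1,1,0,1,0]]

theorem factPrime : Fact (Nat.Prime 59) := ⟨by norm_num⟩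

attribute [local instance] factPrime

theorem hL0 : H2.Regular2.closedB 59 (gens 0) elts = true := by decide +kernel

theorem hL1 : H2.Regular2.closedB 59 (gens 1) elts = true := by decide +kernel

theorem hst0 : (elts.all fun t => !(Nat.beq (t.2.2.1 % 59) 0) ||
    (Nat.beq t.2.1 0 && Nat.beq t.2.2.2 t.1)) = true := by decide +kernel

theorem hsc0 : ((List.range 59).all fun c => Nat.beq c 0 || (List.range 29).any fun k =>
    Nat.beq c (4 ^ k % 59) || Nat.beq ((c + 4 ^ k) % 59) 0) = true := by decide +kernel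

theorem hW10 : ((List.range 59).all fun l => (words.map (H2.Regular2.evalN 59 gens (1, 0))).any
    fun u => !(Nat.beq (u.1 % 59) 0) && Nat.beq u.2 (l * u.1 % 59)) = true := by decide +kernel

theorem hst : ∀ t ∈ elts.map (H2.Regular2.cast4 59), t.2.2.1 = 0 → t.2.1 = 0 ∧ t.2.2.2 = t.1 := by
  intro t ht h
  obtain ⟨t', ht', rfl⟩ := List.mem_map.mp ht
  have h0 := hst0
  simp only [List.all_eq_true, Bool.or_eq_true, Bool.not_eq_true', Bool.and_eq_true,
    Nat.beq_eq] at h0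
  have e2 : t'.2.2.1 % 59 = 0 := by
    have := congrArg ZMod.val h
    rwa [H2.Regular2.cast4, ZMod.val_natCast, ZMod.val_zero] at this
  rcases h0 t' ht' with h1 | ⟨h1, h2⟩
  · rw [e2] at h1; simp at h1
  · simp [H2.Regular2.cast4, h1, h2]

theorem hsc (c : ZMod 59) (hc : c ≠ 0) : ∃ k : ℕ, c = 4 ^ k ∨ c = -4 ^ k := by
  have h0 := hsc0
  simp only [List.all_eq_true, List.any_eq_true, Bool.or_eq_true, Nat.beq_eq, List.mem_range] at h0
  rcases h0 c.val (ZMod.val_lt c) with h | ⟨k, -, h | h⟩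
  · exact absurd ((ZMod.val_eq_zero c).mp h) hc
  · refine ⟨k, Or.inl ?_⟩
    have := congrArg (Nat.cast : ℕ → ZMod 59) h
    simpa using this
  · refine ⟨k, Or.inr ?_⟩
    have := congrArg (Nat.cast : ℕ → ZMod 59) h
    rw [ZMod.natCast_mod] at this
    push_cast at this
    rw [ZMod.natCast_zmod_val] at this
    exact eq_neg_of_add_eq_zero_left this

theorem hW1 (l : ZMod 59) : ∃ w : List ℕ,
    (H2.Regular2.evalW (fun n => H2.Regular2.cast4 59 (gens n)) (1, 0) w).1 ≠ 0 ∧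
    (H2.Regular2.evalW (fun n => H2.Regular2.cast4 59 (gens n)) (1, 0) w).2 =
      l * (H2.Regular2.evalW (fun n => H2.Regular2.cast4 59 (gens n)) (1, 0) w).1 := by
  have h0 := hW10
  simp only [List.all_eq_true, List.any_eq_true, Bool.and_eq_true, Bool.not_eq_true', Nat.beq_eq,
    List.mem_range] at h0
  obtain ⟨u, hu, h1, h2⟩ := h0 l.val (ZMod.val_lt l)
  obtain ⟨w, -, hw⟩ := List.mem_map.mp hu
  have e := H2.Regular2.cast2_evalN 59 gens (1, 0) w
  have e' : H2.Regular2.cast2 59 (1, 0) = (1, 0) := by simp [H2.Regular2.cast2]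
  rw [e', hw] at e
  refine ⟨w, ?_, ?_⟩
  · rw [← e]
    intro h
    have := congrArg ZMod.val h
    rw [H2.Regular2.cast2, ZMod.val_natCast, ZMod.val_zero] at this
    rw [this] at h1
    simp at h1
  · rw [← e, H2.Regular2.cast2, h2]
    simp


/-- An exceptional sharply doubly transitive group of degree 59^2: the listed matrices generate a subgroup of GL(2,59) of order 3480 acting regularly on the non-zero vectors. -/
theorem result (A : Matrix.GeneralLinearGroup (Fin 2) (ZMod 59)) (B : Matrix.GeneralLinearGroup (Fin 2) (ZMod 59)) (C : Matrix.GeneralLinearGroup (Fin 2) (ZMod 59)) (hA : (A : Matrix (Fin 2) (Fin 2) (ZMod 59)) = !![0, -1; 1, 0]) (hB : (B : Matrix (Fin 2) (Fin 2) (ZMod 59)) = !![9, 15; -10, -10]) (hC : (C : Matrix (Fin 2) (Fin 2) (ZMod 59)) = !![4, 0; 0, 4]) : Nat.card (Subgroup.closure ({A, B, C} : Set (Matrix.GeneralLinearGroup (Fin 2) (ZMod 59)))) = 3480 ∧ ∀ v w : Fin 2 → ZMod 59, v ≠ 0 → w ≠ 0 → ∃! h : Subgroup.closure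 ({A, B, C} : Set (Matrix.GeneralLinearGroup (Fin 2) (ZMod 59))), Matrix.mulVec ((h : Matrix.GeneralLinearGroup (Fin 2) (ZMod 59)) : Matrix (Fin 2) (Fin 2) (ZMod 59)) v = w := by
  have hA' : (A : Matrix (Fin 2) (Fin 2) (ZMod 59)) = H2.Regular2.toM (H2.Regular2.cast4 59 (gens 0)) := by
    rw [hA]; decide
  have hB' : (B : Matrix (Fin 2) (Fin 2) (ZMod 59)) = H2.Regular2.toM (H2.Regular2.cast4 59 (gens 1)) := by
    rw [hB]; decide
  have hC' : (C : Matrix (Fin 2) (Fin 2) (ZMod 59)) = (4 : ZMod 59) • 1 := by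
    rw [hC]; decide
  set H := Subgroup.closure ({A, B, C} : Set (Matrix.GeneralLinearGroup (Fin 2) (ZMod 59))) with hH
  have hAH : A ∈ H := Subgroup.subset_closure (by simp)
  have hBH : B ∈ H := Subgroup.subset_closure (by simp)
  have hCH : C ∈ H := Subgroup.subset_closure (by simp)
  have hscal : ∀ c : ZMod 59, c ≠ 0 → ∃ g ∈ H, (g : Matrix (Fin 2) (Fin 2) (ZMod 59)) = c • 1 := by
    intro c hc
    obtain ⟨k, hk | hk⟩ := hsc c hc
    · exact ⟨C ^ k, H.pow_mem hCH _, by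
        rw [Units.val_pow_eq_pow_val, hC', smul_pow, one_pow, hk]⟩
    · refine ⟨A * A * C ^ k, H.mul_mem (H.mul_mem hAH hAH) (H.pow_mem hCH _), ?_⟩
      have : (A : Matrix (Fin 2) (Fin 2) (ZMod 59)) * A = -1 := by rw [hA]; decide
      rw [Units.val_mul, Units.val_mul, this, Units.val_pow_eq_pow_val, hC', smul_pow, one_pow, hk]
      simp
  have hreach : ∀ l : List ℕ, ∀ c : ZMod 59, c ≠ 0 →
      ∃ h ∈ H, Matrix.mulVec (h : Matrix (Fin 2) (Fin 2) (ZMod 59)) (H2.Regular2.toV (1, 0)) =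
        c • H2.Regular2.toV
          (H2.Regular2.evalW (fun n => H2.Regular2.cast4 59 (gens n)) (1, 0) l) := by
    intro l c hc
    obtain ⟨h, hh, e⟩ := H2.Regular2.evalW_mem H (fun n => H2.Regular2.cast4 59 (gens n)) (by
      rintro (_ | n)
      exacts [⟨A, hAH, hA'⟩, ⟨B, hBH, hB'⟩]) (1, 0) l
    obtain ⟨g, hg, e'⟩ := hscal c hc
    refine ⟨g * h, H.mul_mem hg hh, ?_⟩
    rw [Units.val_mul, ← Matrix.mulVec_mulVec, e, e', Matrix.smul_mulVec, Matrix.one_mulVec]
  have := H2.Regular2.regular_of (F := ZMod 59) H (H2.Regular2.toV (1, 0))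
    (by
      intro h
      have := congrFun h 0
      simp [H2.Regular2.toV] at this)
    (by
      intro h hh hfix
      have : h ∈ {g : GL (Fin 2) (ZMod 59) | ∃ c : ZMod 59, ∃ t ∈ elts.map (H2.Regular2.cast4 59),
          (g : Matrix (Fin 2) (Fin 2) (ZMod 59)) = c • H2.Regular2.toM t} := by
        refine H2.Regular2.closure_subset_of_mul_left
          (T := {g : GL (Fin 2) (ZMod 59) | ∃ c : ZMod 59, ∃ t ∈ elts.map (H2.Regular2.cast4 59),
            (g : Matrix (Fin 2) (Fin 2) (ZMod 59)) = c • H2.Regular2.toM t})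
          ⟨1, _, List.mem_map_of_mem (a := (1, 0, 0, 1)) List.mem_cons_self, ?_⟩ ?_ hh
        · simp [H2.Regular2.toM, H2.Regular2.cast4, Matrix.one_fin_two]
        · rintro s (rfl | rfl | rfl) t ⟨c, t', ht', e⟩
          · exact ⟨c, _, H2.Regular2.closed_of_closedB hL0 t' ht', by
              rw [Units.val_mul, hA', e, H2.Regular2.toM_mul4, Matrix.mul_smul]⟩
          · exact ⟨c, _, H2.Regular2.closed_of_closedB hL1 t' ht', by
              rw [Units.val_mul, hB', e, H2.Regular2.toM_mul4, Matrix.mul_smul]⟩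
          · exact ⟨4 * c, t', ht', by
              rw [Units.val_mul, hC', e, Matrix.smul_mul, one_mul, smul_smul]⟩
      obtain ⟨c, t, ht, e⟩ := this
      rw [e, Matrix.smul_mulVec, ← H2.Regular2.toV_app4] at hfix
      have e0 := congrFun hfix 0
      have e1 := congrFun hfix 1
      simp [H2.Regular2.toV, H2.Regular2.app4] at e0 e1
      have hc : c ≠ 0 := by
        rintro rfl
        simp at e0
      obtain ⟨h1, h2⟩ := hst t ht (e1.resolve_left hc)
      ext1
      rw [e]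
      ext i j
      fin_cases i <;> fin_cases j <;> simp [H2.Regular2.toM, h1, h2, e0, e1.resolve_left hc])
    (by
      intro w hw
      by_cases h0 : w 0 = 0
      · have hu : H2.Regular2.evalW (fun n => H2.Regular2.cast4 59 (gens n)) (1, 0) [0] = (0, 1) := by
          decide
        have h1 : w 1 ≠ 0 := by
          intro h1
          apply hw
          ext i
          fin_cases i
          exacts [h0, h1]
        obtain ⟨h, hh, e⟩ := hreach [0] (w 1) h1
        refine ⟨h, hh, ?_⟩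
        rw [e, hu]
        ext i
        fin_cases i
        · simp [H2.Regular2.toV, h0]
        · simp [H2.Regular2.toV]
      · obtain ⟨l, hu1, hu2⟩ := hW1 (w 1 / w 0)
        obtain ⟨h, hh, e⟩ := hreach l (w 0 / _) (div_ne_zero h0 hu1)
        generalize H2.Regular2.evalW (fun n => H2.Regular2.cast4 59 (gens n)) (1, 0) l = u
          at hu1 hu2 e
        refine ⟨h, hh, ?_⟩
        rw [e]
        ext i
        fin_cases i
        · simp [H2.Regular2.toV, hu1]
        · simp only [H2.Regular2.toV, hu2]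
          simp
          field_simp)
  simpa using this

end Cfsg.Agent.S0693
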