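import Cfsg.Statements.S5726
import Cfsg.Agent.H1.Basic

set_option autoImplicit false
open Cfsg

namespace Cfsg.Agent.S5726

/-- If a finite group acts faithfully and transitively on a set with p^k elements, p a prime and k ≥ 1, then some element of order p fixes no point. -/
theorem result {G Ω : Type*} [Group G] [Finite G] [MulAction G Ω] [FaithfulSMul G Ω] [Fintype Ω] (htr : MulAction.IsPretransitive G Ω)
    (p k : ℕ) (hp : p.Prime) (hk : 1 ≤ k) (hΩ : Fintype.card Ω = p ^ k) :
    ∃ g : G, orderOf g = p ∧ ∀ ω : Ω, g • ω ≠ ω := by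
  have : Fact p.Prime := ⟨hp⟩
  obtain ⟨P⟩ : Nonempty (Sylow p G) := inferInstance
  have hc : Nat.card Ω = p ^ k := by rw [Nat.card_eq_fintype_card, hΩ]
  have hP := H1.Basic.sylow_isPretransitive hc P
  have hne : Nonempty Ω := by
    rw [← Fintype.card_pos_iff, hΩ]; exact pow_pos hp.pos k
  have hdvd : p ∣ Nat.card G :=
    (hc ▸ dvd_pow_self p (by omega)).trans (H1.Basic.card_dvd_card_group (G := G) (Ω := Ω))
  have hnt : Nontrivial (P : Subgroup G) :=
    (Subgroup.nontrivial_iff_ne_bot _).2 (P.ne_bot_of_dvd_card hdvd)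
  have hZ := P.isPGroup'.center_nontrivial
  have hZp : IsPGroup p (Subgroup.center (P : Subgroup G)) := P.isPGroup'.to_subgroup _
  have hd : p ∣ Nat.card (Subgroup.center (P : Subgroup G)) :=
    hZp.card_eq_or_dvd.resolve_left Finite.one_lt_card.ne'
  obtain ⟨z, hz⟩ := exists_prime_orderOf_dvd_card' p hd
  refine ⟨((z : (P : Subgroup G)) : G), by rw [Subgroup.orderOf_coe, Subgroup.orderOf_coe]; exact hz, fun ω hω => ?_⟩
  have h1 : ((z : (P : Subgroup G)) : G) = 1 := by
    apply FaithfulSMul.eq_of_smul_eq_smul (α := Ω)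
    intro x
    obtain ⟨g, rfl⟩ := MulAction.exists_smul_eq (P : Subgroup G) ω x
    have hc := Subgroup.mem_center_iff.1 z.2 g
    have hc' : (g : G) * ((z : (P : Subgroup G)) : G) = ((z : (P : Subgroup G)) : G) * g :=
      congrArg Subtype.val hc
    rw [one_smul, Subgroup.smul_def, ← mul_smul, ← hc', mul_smul, hω]
  have h2 : z = 1 := Subtype.ext (Subtype.ext h1)
  rw [h2, orderOf_one] at hz
  exact hp.one_lt.ne hz

end Cfsg.Agent.S5726
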