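import Cfsg.Statements.S5727
import Cfsg.Agent.H1.Basic
import Cfsg.Agent.S5726

set_option autoImplicit false
open Cfsg

namespace Cfsg.Agent.S5727

open MulAction in
theorem card_eq_sum_orbits (H Ω : Type*) [Group H] [MulAction H Ω] [Fintype Ω]
    [Fintype (orbitRel.Quotient H Ω)] :
    Nat.card Ω = ∑ q : orbitRel.Quotient H Ω, Nat.card (orbit H q.out) := by
  rw [Nat.card_congr (selfEquivSigmaOrbits H Ω), Nat.card_sigma]

/-- If a finite group acts faithfully and transitively on a set with m·p elements, where p is a prime and 1 ≤ m ≤ p, then some element of order p fixes no point. -/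
theorem result {G Ω : Type*} [Group G] [Finite G] [MulAction G Ω] [FaithfulSMul G Ω] [Fintype Ω] (htr : MulAction.IsPretransitive G Ω)
    (p m : ℕ) (hp : p.Prime) (hm : 1 ≤ m) (hmp : m ≤ p) (hΩ : Fintype.card Ω = m * p) :
    ∃ g : G, orderOf g = p ∧ ∀ ω : Ω, g • ω ≠ ω := by
  classical
  rcases hmp.eq_or_lt with rfl | hlt
  · exact S5726.result htr m 2 hp (by norm_num) (by rw [hΩ, sq])
  have : Fact p.Prime := ⟨hp⟩
  obtain ⟨P⟩ : Nonempty (Sylow p G) := inferInstance
  have hc : Nat.card Ω = m * p := by rw [Nat.card_eq_fintype_card, hΩ]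
  have hdvd : p ∣ Nat.card Ω := hc ▸ dvd_mul_left p m
  have : Fintype (P : Subgroup G) := Fintype.ofFinite _
  have : Fintype (MulAction.orbitRel.Quotient (P : Subgroup G) Ω) := Fintype.ofFinite _
  -- the number of orbits of `P` is at most `m`
  have h1 : Fintype.card (MulAction.orbitRel.Quotient (P : Subgroup G) Ω) ≤ m := by
    have h2 := card_eq_sum_orbits (P : Subgroup G) Ω
    have h3 : ∑ _q : MulAction.orbitRel.Quotient (P : Subgroup G) Ω, p ≤
        ∑ q : MulAction.orbitRel.Quotient (P : Subgroup G) Ω,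
          Nat.card (MulAction.orbit (P : Subgroup G) q.out) := by
      refine Finset.sum_le_sum fun q _ => ?_
      have : Nonempty (MulAction.orbit (P : Subgroup G) q.out) :=
        ⟨⟨_, MulAction.mem_orbit_self _⟩⟩
      exact Nat.le_of_dvd Nat.card_pos (H1.Basic.prime_dvd_card_orbit_sylow hdvd P _)
    rw [← h2, hc, Finset.sum_const, Finset.card_univ, smul_eq_mul] at h3
    exact Nat.le_of_mul_le_mul_right h3 hp.pos
  -- some element of `P` has no fixed point
  have h4 : ∃ g : (P : Subgroup G), ∀ ω : Ω, g • ω ≠ ω := by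
    by_contra hcon
    push Not at hcon
    have h5 : ∀ g : (P : Subgroup G), p ≤ Fintype.card (MulAction.fixedBy Ω g) := by
      intro g
      obtain ⟨ω, hω⟩ := hcon g
      have hz : IsPGroup p (Subgroup.zpowers g) := P.isPGroup'.to_subgroup _
      have h6 := hz.card_modEq_card_fixedPoints Ω
      have h7 : MulAction.fixedPoints (Subgroup.zpowers g) Ω = MulAction.fixedBy Ω g := by
        ext x
        simp only [MulAction.mem_fixedPoints, MulAction.mem_fixedBy]
        constructor
        · intro h; exact h ⟨g, Subgroup.mem_zpowers g⟩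
        · rintro h ⟨_, k, rfl⟩
          exact MulAction.mem_fixedBy_zpow h k
      rw [h7] at h6
      have h8 : p ∣ Nat.card (MulAction.fixedBy Ω g) := (h6.dvd_iff dvd_rfl).1 hdvd
      rw [← Nat.card_eq_fintype_card]
      have : Nonempty (MulAction.fixedBy Ω g) := ⟨⟨ω, hω⟩⟩
      exact Nat.le_of_dvd Nat.card_pos h8
    have h9 := MulAction.sum_card_fixedBy_eq_card_orbits_mul_card_group (P : Subgroup G) Ω
    have h10 : ∑ _g : (P : Subgroup G), p ≤ ∑ g : (P : Subgroup G),
        Fintype.card (MulAction.fixedBy Ω g) := Finset.sum_le_sum fun g _ => h5 g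
    rw [h9, Finset.sum_const, Finset.card_univ, smul_eq_mul] at h10
    have h11 : 0 < Fintype.card (P : Subgroup G) := Fintype.card_pos
    nlinarith
  obtain ⟨g, hg⟩ := h4
  have hne : Nonempty Ω := by
    rw [← Fintype.card_pos_iff, hΩ]; exact Nat.mul_pos hm hp.pos
  refine ⟨g, ?_, hg⟩
  have hg1 : (g : G) ≠ 1 := by
    intro h
    obtain ⟨ω⟩ := hne
    apply hg ω
    rw [Subgroup.smul_def, h, one_smul]
  refine orderOf_eq_prime ?_ hg1
  apply FaithfulSMul.eq_of_smul_eq_smul (α := Ω)
  intro x
  rw [one_smul]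
  have hz : IsPGroup p (Subgroup.zpowers g) := P.isPGroup'.to_subgroup _
  obtain ⟨k, hk⟩ := hz.card_orbit x
  have hle : Nat.card (MulAction.orbit (Subgroup.zpowers g) x) ≤ Nat.card Ω :=
    Nat.card_le_card_of_injective _ Subtype.val_injective
  have hk1 : k ≤ 1 := by
    by_contra hk2
    have : p ^ 2 ≤ p ^ k := Nat.pow_le_pow_right hp.pos (by omega)
    nlinarith [hp.pos]
  have hper : MulAction.period g x ∣ p := by
    have : MulAction.period g x = p ^ k := by
      rw [← hk, MulAction.period, MulAction.minimalPeriod_eq_card, Nat.card_eq_fintype_card]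
    rw [this]
    simpa using pow_dvd_pow p hk1
  exact MulAction.pow_smul_eq_iff_period_dvd.2 hper

end Cfsg.Agent.S5727
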