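import Cfsg.Statements.S5728
import Mathlib

set_option autoImplicit false
open Cfsg

namespace Cfsg.Agent.S5728

/-- An elusive transitive action. Let p = 2^s − 1 be a prime and let F be the field with p² elements. Inside the group of affine maps x ↦ a·x + b of F (a ≠ 0), consider the subgroup of maps with both coefficients in the prime field. Then every element of prime order of the affine group is conjugate, within the affine group, to an element of that subgroup; equivalently, in the transitive action of the affine group on the cosets of that subgroup (of degree p(p + 1)) every element of prime order fixes a point. -/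
theorem result (p s : ℕ) [Fact p.Prime] (hs : p = 2 ^ s - 1)
    (g : Equiv.Perm (GaloisField p 2)) (hg : g ∈ Cfsg.affineGroup (GaloisField p 2)) (hord : (orderOf g).Prime) :
    ∃ x ∈ Cfsg.affineGroup (GaloisField p 2), ∃ a b : ZMod p, a ≠ 0 ∧
      ∀ y : GaloisField p 2, (x * g * x⁻¹) y = algebraMap (ZMod p) (GaloisField p 2) a * y + algebraMap (ZMod p) (GaloisField p 2) b := by
  have hp : p.Prime := Fact.out
  obtain ⟨a, b, hab⟩ := hg
  have hg1 : g ≠ 1 := by
    rintro rfl
    rw [orderOf_one] at hord
    exact Nat.not_prime_one hord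
  by_cases ha : a = 1
  · have hb : b ≠ 0 := by
      rintro rfl
      apply hg1
      ext y
      simp [hab, ha]
    refine ⟨Equiv.mulLeft₀ b⁻¹ (inv_ne_zero hb), ⟨Units.mk0 b⁻¹ (inv_ne_zero hb), 0, fun y => by simp⟩,
      1, 1, one_ne_zero, fun y => ?_⟩
    simp only [Equiv.Perm.mul_apply, hab, ha, Equiv.Perm.inv_def, Equiv.mulLeft₀_symm_apply,
      Equiv.mulLeft₀_apply, map_one, Units.val_one]
    field_simp
  · have ha' : (1 : GaloisField p 2) - a ≠ 0 := by
      intro h
      apply ha
      ext
      rw [Units.val_one]
      exact (sub_eq_zero.mp h).symm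
    set c : GaloisField p 2 := b / (1 - a) with hc
    let x : Equiv.Perm (GaloisField p 2) := Equiv.addRight (-c)
    have hx : ∀ y, (x * g * x⁻¹) y = a * y := by
      intro y
      simp only [x, Equiv.Perm.mul_apply, hab, Equiv.Perm.inv_def, Equiv.addRight_symm,
        Equiv.coe_addRight, neg_neg]
      rw [hc]
      field_simp
      ring
    have hpow : ∀ k : ℕ, ((x * g * x⁻¹) ^ k) 1 = (a : GaloisField p 2) ^ k := by
      intro k
      induction k with
      | zero => simp
      | succ k ih => rw [pow_succ', Equiv.Perm.mul_apply, ih, hx, pow_succ']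
    have har : a ^ orderOf g = 1 := by
      ext
      rw [Units.val_pow_eq_pow_val, ← hpow, conj_pow, pow_orderOf_eq_one]
      simp
    haveI : Fact (orderOf g).Prime := ⟨hord⟩
    have hoa : orderOf a = orderOf g := orderOf_eq_prime har ha
    have hdvd : orderOf g ∣ p ^ 2 - 1 := by
      rw [← hoa, ← GaloisField.card p 2 two_ne_zero, ← Nat.card_units]
      exact orderOf_dvd_natCard a
    have h2s : 2 ^ s = p + 1 := by
      have : 1 ≤ 2 ^ s := Nat.one_le_two_pow
      omega
    have hs0 : s ≠ 0 := by
      rintro rfl
      have := hp.two_le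
      simp at h2s
      omega
    have hodd : 2 ∣ p - 1 := by
      have : 2 ∣ p + 1 := h2s ▸ dvd_pow_self 2 hs0
      have := hp.two_le
      omega
    have hdvd' : orderOf g ∣ p - 1 := by
      rw [show p ^ 2 - 1 = (p + 1) * (p - 1) from by simpa using Nat.sq_sub_sq p 1] at hdvd
      rcases (Nat.Prime.dvd_mul hord).mp hdvd with h | h
      · rw [← h2s] at h
        have := (Nat.prime_dvd_prime_iff_eq hord Nat.prime_two).mp (hord.dvd_of_dvd_pow h)
        rw [this]; exact hodd
      · exact h
    have hap : (a : GaloisField p 2) ^ p = a := by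
      have h1 : a ^ (p - 1) = 1 := orderOf_dvd_iff_pow_eq_one.mp (hoa ▸ hdvd')
      have h2 : (a : GaloisField p 2) ^ (p - 1) = 1 := by
        rw [← Units.val_pow_eq_pow_val, h1, Units.val_one]
      calc (a : GaloisField p 2) ^ p = (a : GaloisField p 2) ^ (p - 1 + 1) := by
            rw [Nat.sub_add_cancel hp.one_le]
        _ = a := by rw [pow_succ, h2, one_mul]
    have hmem : (a : GaloisField p 2) ∈ (algebraMap (ZMod p) (GaloisField p 2)).fieldRange :=
      (bot_le : (⊥ : Subfield (GaloisField p 2)) ≤ _)
        ((Subfield.mem_bot_iff_pow_eq_self (GaloisField p 2) p).mpr hap)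
    obtain ⟨a₀, ha₀⟩ := hmem
    refine ⟨x, ⟨1, -c, fun y => by simp [x]⟩, a₀, 0, ?_, fun y => ?_⟩
    · rintro rfl
      rw [map_zero] at ha₀
      exact a.ne_zero ha₀.symm
    · rw [hx, ha₀, map_zero, add_zero]

end Cfsg.Agent.S5728
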