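import Cfsg.Statements.S5740
import Cfsg.Agent.H3.LocD
import Cfsg.Agent.H3.E6Ord

set_option autoImplicit false
open Cfsg

namespace Cfsg.Agent.S5740

/-- In the simple group ²E₆(2) (the twisted group of type E₆ over the field with 4 elements), for every prime p > 5 no p-local subgroup is maximal: the normaliser of a non-trivial p-subgroup is never a maximal subgroup. -/
theorem result {K : Type*} [Field K] [Fintype K] (hK : Fintype.card K = 4) (p : ℕ) (hp : p.Prime) (h5 : 5 < p)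
    (P : Subgroup (Cfsg.Lie.twistedE6 K 2)) (hP : IsPGroup p P) (hP1 : P ≠ ⊥) :
    ¬ IsCoatom (Subgroup.normalizer (P : Set (Cfsg.Lie.twistedE6 K 2))) := by
  open Cfsg.Agent.H3.Loc Cfsg.Agent.H2 Cfsg.Agent.H2.B27 CE in
  obtain ⟨_, w, hw⟩ := exists_w hK
  obtain ⟨a, b, hc⟩ := Cfsg.Agent.H3.TwOrd.card_E6 hK
  have : Finite (Cfsg.Lie.twistedE6 K 2) := Nat.finite_of_card_ne_zero (by rw [hc]; positivity)
  have := Fact.mk hp
  have c2 : ∀ k, (p ^ k).Coprime (2 ^ a) := fun k =>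
    ((Nat.coprime_primes hp Nat.prime_two).2 (by omega)).pow _ _
  have c3 : p.Coprime 3 := (Nat.coprime_primes hp Nat.prime_three).2 (by omega)
  have hd : ∀ k, p ^ k ∣ Nat.card (Cfsg.Lie.twistedE6 K 2) → p ^ k ∣ 371231385525 := fun k h =>
    (c3.pow _ _).dvd_of_dvd_mul_left ((c2 k).dvd_of_dvd_mul_left (hc ▸ h))
  have hm : ∀ c, evc (gl w LT) c ∈ Lf K := evc_mem fun _ h => lt_mem hw h
  have hv := evc_val hw okLT
  have h1 : ((1 : GL (Fin 27) K) : Matrix (Fin 27) (Fin 27) K) = tm w one := (tm_one w).symm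
  have ho := hp.odd_of_ne_two (by omega)
  have one : ∀ {c y z}, okL p (ev4 LT c) one (ev4 LT y) (ev4 LT z) = true →
      ¬ p ^ 2 ∣ 371231385525 → ¬ IsCoatom (Subgroup.normalizer (P : Set (Cfsg.Lie.twistedE6 K 2))) :=
    fun {c y z} h h' => by
      obtain ⟨g, hg⟩ := ex_img (hm c)
      have h2 := loc hw hK h c3 ho (hv _) h1 (hv _) (hv _) (hm _) (hm _) hg (one_mem _)
      exact red_one h2.1.2.1 h2.1.2.2.2 (fun e => h' (hd _ e)) h2.2 P hP hP1
  obtain ⟨n, hn⟩ := IsPGroup.iff_card.1 hP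
  have h2 : p ∣ 3 ^ 8 * 5 ^ 2 * 7 ^ 2 * 11 * 13 * 17 * 19 := by
    have := hd _ (hn ▸ Subgroup.card_subgroup_dvd_card P)
    refine (dvd_pow_self p ?_).trans this
    rintro rfl
    exact hP1 (Subgroup.card_eq_one.1 hn)
  simp only [hp.dvd_mul, hp.prime.dvd_pow_iff_dvd two_ne_zero,
    hp.prime.dvd_pow_iff_dvd (show 8 ≠ 0 by norm_num)] at h2
  rcases h2 with (((((h | h) | h) | h) | h) | h) | h <;>
    obtain rfl := (Nat.prime_dvd_prime_iff_eq hp (by norm_num)).1 h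
  · omega
  · omega
  · obtain ⟨g1, a1⟩ := ex_img (hm c7)
    obtain ⟨g2, a2⟩ := ex_img (hm 0x957b)
    have b1 := loc hw hK ok7a c3 ho (hv _) (hv _) (hv _) (hv _) (hm _) (hm _) a1 a2
    have b2 := loc hw hK ok7b c3 ho (hv _) h1 (hv _) (hv _) (hm _) (hm _) a2 (one_mem _)
    have b0 : ∀ {x y : GL (Fin 27) K} (j : ℕ), (x, g1) ∈ Gm K → (y, g2) ∈ Gm K →
        (x * y ^ j, g1 * g2 ^ j) ∈ Gm K := fun j a b => by
      have := mul_mem a (pow_mem b j)
      rwa [Prod.pow_mk, Prod.mk_mul_mk] at this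
    have b3 := fun j hj => loc hw hK (ok7c j hj) c3 ho (x1 := _ * _ ^ j) (by
      rw [Units.val_mul, Units.val_pow_eq_pow_val, hv, hv, tm_mul4 hw, tm_pow4 hw]) h1 (hv _) (hv _)
      (hm _) (hm _) (b0 j a1 a2) (one_mem _)
    exact red_two b1.1.1 b1.1.2.1 b1.1.2.2.1 b2.1.2.2.2 (fun j hj => (b3 j hj).1.2.2.2)
      (fun e => absurd (hd _ e) (by norm_num)) b1.2 b2.2 (fun j hj => (b3 j hj).2) P hP hP1
  · exact one ok11 (by norm_num)
  · exact one ok13 (by norm_num)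
  · exact one ok17 (by norm_num)
  · obtain ⟨g, hg⟩ := ex_img (hm 0x6a342c381)
    have b1 := loc19 hw hK ok19d.1 ok19d.2.1 ok19a ok19b ok19c ok19d.2.2.1 ok19e.1 ok19e.2
      ok19d.2.2.2.1 ok19d.2.2.2.2.1 ok19d.2.2.2.2.2 ((hv _).trans (congrArg _ ev19.1))
      ((hv _).trans (congrArg _ ev19.2)) (hv _) (hm _) (hm _) hg
    exact red_one b1.1.1 b1.1.2 (fun e => absurd (hd _ e) (by norm_num)) b1.2 P hP hP1

end Cfsg.Agent.S5740
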