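import Cfsg.Statements.S5743
import Cfsg.Agent.H2.E6Main
import Cfsg.Agent.H8.Roots

set_option autoImplicit false
open Cfsg

namespace Cfsg.Agent.S5743

open Cfsg.Agent.H2.B27

/-- The simple group ²E₆(2) (the twisted group of type E₆ over the field with 4 elements) contains at least three pairwise non-conjugate subgroups isomorphic to the Chevalley group F₄(2). -/
theorem result {K : Type*} [Field K] [Fintype K] (hK : Fintype.card K = 4) :
    ∃ H : Fin 3 → Subgroup (Cfsg.Lie.twistedE6 K 2),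
      (∀ i, Nonempty ((H i) ≃* Cfsg.Lie.chevF4.group (ZMod 2))) ∧
      (∀ i j, i ≠ j → ∀ g : (Cfsg.Lie.twistedE6 K 2), (H i).map (MulAut.conj g).toMonoidHom ≠ H j) := by
  haveI : Fact (Nat.Prime 2) := ⟨Nat.prime_two⟩
  haveI : CharP K 2 := charP_of_card_eq_prime_pow (p := 2) (f := 2) (by rw [hK]; norm_num)
  have h3 : ∀ c : K, c ≠ 0 → c ^ 3 = 1 := fun c hc => by
    have := FiniteField.pow_card_sub_one_eq_one c hc
    rwa [hK] at this
  obtain ⟨w, hw⟩ := H8.exists_isPrimitiveRoot (F := K) (d := 3) (by rw [hK])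
  have hs : ∀ i : Fin 3, (w ^ i.1) ^ 3 = 1 := fun i => by
    rw [pow_right_comm, hw.pow_eq_one, one_pow]
  refine ⟨fun i => (LL (w ^ i.1) (hs i)).subgroupOf _, fun i => iso_LL _ _, fun i j hij g e => ?_⟩
  refine hij (Fin.ext (hw.pow_inj i.2 j.2 (eq_of_conj h3 (hs i) (hs j) g.2 fun b hb => ?_)))
  have : MulAut.conj g ⟨b, (mem_LL.mp hb).1⟩ ∈ (LL (w ^ j.1) (hs j)).subgroupOf _ := by
    have e' := e
    simp only at e'
    rw [← e']
    exact ⟨_, hb, rfl⟩
  exact this

end Cfsg.Agent.S5743
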