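import Cfsg.Statements.S5823
import Cfsg.Agent.H9.SpO4

set_option autoImplicit false
open Cfsg

namespace Cfsg.Agent.S5823

/-- Every maximal subgroup of Sp_8(q) is of one of the listed geometric types or lies in the residual class. Let F be a finite field with q elements, f the standard alternating form on F^8 (coordinates Fin 4 ⊕ Fin 4), and H a maximal subgroup of Sp_8(F) (inside GL_8(F)). Then H is the intersection with Sp_8(F) of one of: the stabiliser of a non-zero totally isotropic subspace; the stabiliser of a non-degenerate 2-space; for q ≥ 3, the stabiliser of a decomposition into four mutually orthogonal non-degenerate 2-spaces; of a decomposition into two orthogonal non-degenerate 4-spaces; for q odd, of a decomposition into two totally isotropic 4-spaces; the normaliser of a degree-2 subfield K, self-adjoint with f(k v, v) = 0; for q odd, the normaliser of a degree-2 subfield closed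 under adjoints but not self-adjoint; for q odd, the stabiliser of a tensor decomposition of f into an alternating form on F^2 and a minus-type symmetric form on F^4; a subfield group (|F| = |F₀|^r, r prime) whose F₀-structure carries a non-zero multiple of f; for q = p an odd prime, the normaliser of an absolutely irreducible extraspecial group 2_-^(1+6) of exponent 4 inside the similarity group of f; for q odd, q ≥ 5, the stabiliser of a tensor decomposition of f as a third tensor power of an alternating form on F^2; for q even, the similarity group of a non-degenerate quadratic form polarising to f — or else H lies in the residual class of the symplectic case. -/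
theorem result {F : Type*} [Field F] [Fintype F] (H : Subgroup (Matrix.GeneralLinearGroup (Fin 4 ⊕ Fin 4) F)) (hH : Cfsg.Geo.IsMaximalIn (Cfsg.spGL 4 F) H) :
    (∃ W : Submodule F (Fin 4 ⊕ Fin 4 → F), W ≠ ⊥ ∧ Cfsg.Geo.IsTotallySingularFor (Cfsg.sympForm 4 F) W ∧ H = Cfsg.Geo.subspaceStabilizer W ⊓ Cfsg.spGL 4 F) ∨
    (∃ W : Submodule F (Fin 4 ⊕ Fin 4 → F), W ≠ ⊥ ∧ Cfsg.Geo.IsNondegenerateOn (Cfsg.sympForm 4 F) W ∧ Module.finrank F W < 4 ∧ H = Cfsg.Geo.subspaceStabilizer W ⊓ Cfsg.spGL 4 F) ∨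
    (3 ≤ Fintype.card F ∧ ∃ D : Fin 4 → Submodule F (Fin 4 ⊕ Fin 4 → F), Cfsg.Geo.IsNondegenerateMDecomposition (Cfsg.sympForm 4 F) 2 D ∧ H = Cfsg.Geo.decompositionStabilizer D ⊓ Cfsg.spGL 4 F) ∨
    (∃ D : Fin 2 → Submodule F (Fin 4 ⊕ Fin 4 → F), Cfsg.Geo.IsNondegenerateMDecomposition (Cfsg.sympForm 4 F) 4 D ∧ H = Cfsg.Geo.decompositionStabilizer D ⊓ Cfsg.spGL 4 F) ∨
    (Odd (Fintype.card F) ∧ ∃ D : Fin 2 → Submodule F (Fin 4 ⊕ Fin 4 → F), Cfsg.Geo.IsMDecomposition 4 D ∧ (∀ i, Cfsg.Geo.IsTotallySingularFor (Cfsg.sympForm 4 F) (D i)) ∧ H = Cfsg.Geo.decompositionStabilizer D ⊓ Cfsg.spGL 4 F) ∨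
    (∃ K : Subalgebra F (Matrix (Fin 4 ⊕ Fin 4) (Fin 4 ⊕ Fin 4) F), Cfsg.Geo.IsFieldSubalgebra 2 K ∧ Cfsg.Geo.IsSelfAdjointFor (Cfsg.sympForm 4 F) K ∧ (∀ k ∈ K, ∀ v : (Fin 4 ⊕ Fin 4 → F), (Cfsg.sympForm 4 F) (Matrix.mulVec k v) v = 0) ∧ H = Cfsg.Geo.subalgebraNormalizer K ⊓ Cfsg.spGL 4 F) ∨
    (Odd (Fintype.card F) ∧ ∃ K : Subalgebra F (Matrix (Fin 4 ⊕ Fin 4) (Fin 4 ⊕ Fin 4) F), Cfsg.Geo.IsFieldSubalgebra 2 K ∧ Cfsg.Geo.IsAdjointClosedFor (Cfsg.sympForm 4 F) K ∧ ¬ Cfsg.Geo.IsSelfAdjointFor (Cfsg.sympForm 4 F) K ∧ H = Cfsg.Geo.subalgebraNormalizer K ⊓ Cfsg.spGL 4 F) ∨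
    (Odd (Fintype.card F) ∧ ∃ (e : (Fin 4 ⊕ Fin 4) ≃ Fin 2 × Fin 4) (P : Matrix.GeneralLinearGroup (Fin 4 ⊕ Fin 4) F) (f₁ : (Fin 2 → F) → (Fin 2 → F) → F) (f₂ : (Fin 4 → F) → (Fin 4 → F) → F), Cfsg.Geo.IsSymplecticForm f₁ ∧ Cfsg.Geo.IsSymmetricForm f₂ ∧ ¬ Cfsg.Geo.IsPlusTypeOn (fun v : Fin 4 → F => f₂ v v) ⊤ ∧ Cfsg.Geo.IsTensorFormStructure id (Cfsg.sympForm 4 F) f₁ f₂ e P ∧ H = Cfsg.Geo.tensorProductSubgroup 2 4 e P ⊓ Cfsg.spGL 4 F) ∨
    (∃ (F₀ : Subfield F) (r : ℕ) (P : Matrix.GeneralLinearGroup (Fin 4 ⊕ Fin 4) F) (ζ : F), r.Prime ∧ Fintype.card F = Nat.card F₀ ^ r ∧ ζ ≠ 0 ∧ Cfsg.Geo.IsFormRationalStructure (Cfsg.sympForm 4 F) F₀ ζ P ∧ H = Cfsg.Geo.subfieldSubgroup F₀ P ⊓ Cfsg.spGL 4 F) ∨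
    (∃ (p : ℕ) (R : Subgroup (Matrix.GeneralLinearGroup (Fin 4 ⊕ Fin 4) F)), p.Prime ∧ Odd p ∧ Fintype.card F = p ∧ Cfsg.Geo.IsSymplecticTypeGroup 2 R ∧ Cfsg.Geo.ActsAbsolutelyIrreducibly (Cfsg.Geo.matrixSet R) ∧ R ≤ Cfsg.Geo.similarityGroup (Cfsg.sympForm 4 F) ∧ Nat.card R = 128 ∧ Nat.card (Subgroup.center R) = 2 ∧ Cfsg.Geo.IsOfMinusType 3 R ∧ H = Cfsg.Geo.subgroupNormalizer R ⊓ Cfsg.spGL 4 F) ∨
    (Odd (Fintype.card F) ∧ 5 ≤ Fintype.card F ∧ ∃ (e : (Fin 4 ⊕ Fin 4) ≃ (Fin 3 → Fin 2)) (P : Matrix.GeneralLinearGroup (Fin 4 ⊕ Fin 4) F) (f₁ : (Fin 2 → F) → (Fin 2 → F) → F), Cfsg.Geo.IsSymplecticForm f₁ ∧ Cfsg.Geo.IsTensorPowerFormStructure id (Cfsg.sympForm 4 F) f₁ e P ∧ H = Cfsg.Geo.tensorWreathSubgroup 2 3 e P ⊓ Cfsg.spGL 4 F) ∨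
    (¬ Odd (Fintype.card F) ∧ ∃ Q : (Fin 4 ⊕ Fin 4 → F) → F, Cfsg.Geo.IsNondegenerateQuadraticForm Q ∧ (∀ u v : (Fin 4 ⊕ Fin 4 → F), QuadraticMap.polar Q u v = (Cfsg.sympForm 4 F) u v) ∧ H = Cfsg.Geo.quadSimilarityGroup Q ⊓ Cfsg.spGL 4 F) ∨
    Cfsg.Geo.InSymplecticResidualClass H := by
  rcases H9.SpT.sp_max (by norm_num) hH with h | ⟨-, h⟩ | ⟨t, k, h1, h2, h3, h⟩ | h | ⟨r, h1, h2, h⟩ | h |
    ⟨h0, a, n, h1, h2, h3, e, P, f₁, f₂, h4, h5, h6, h⟩ | h | ⟨k, h1, h⟩ | ⟨h0, k, t, h1, h2, h3, h⟩ | h | h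
  · exact Or.inl h
  · exact Or.inr (Or.inl h)
  · have := Nat.le_of_dvd (by norm_num) ⟨k, h1.symm⟩
    obtain rfl | rfl : t = 4 ∨ t = 2 := by interval_cases t <;> omega
    · obtain rfl : k = 1 := by omega
      exact Or.inr (Or.inr (Or.inl ⟨h3 rfl, h⟩))
    · obtain rfl : k = 2 := by omega
      exact Or.inr (Or.inr (Or.inr (Or.inl h)))
  · iterate 4 right
    exact Or.inl h
  · obtain rfl := (Nat.prime_dvd_prime_iff_eq h1 Nat.prime_two).1 (h1.dvd_of_dvd_pow (n := 2) h2)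
    iterate 5 right
    exact Or.inl h
  · iterate 6 right
    exact Or.inl h
  · have := Nat.le_of_dvd (by norm_num) (⟨a, by rw [← h1, mul_comm]⟩ : n ∣ 4)
    obtain rfl : n = 4 := by interval_cases n <;> omega
    obtain rfl : a = 1 := by omega
    by_cases hp : Geo.IsPlusTypeOn (fun v => f₂ v v) ⊤
    swap
    · iterate 7 right
      exact Or.inl ⟨h0, e, P, f₁, f₂, h4, h5, hp, h6, h⟩
    obtain ⟨e', P', h'⟩ := H9.SpT.sp8_plus h0 hH.1.le h4 h5 hp h6 (h ▸ inf_le_left)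
    by_cases hq : Fintype.card F = 3
    · obtain ⟨R, k1, k2, k3⟩ := H9.SpT.exists_rdata_wreath hq (Asch.herm_J 4).unit h'
      iterate 9 right
      exact Or.inl ⟨3, R, Nat.prime_three, by decide, hq,
        H9.SpT.max_rdata (k := 3) (by norm_num) hH rfl k1 k2 k3.le_normalizer⟩
    · iterate 10 right
      exact Or.inl ⟨h0, H9.SpT.five_le_of_odd h0 hq, e', P', _, Asch.isSymplecticForm_gf Asch.isUnit_J2
        Asch.J2_transpose (Asch.alt_of_skew (Asch.odd_card_iff.1 h0) Asch.J2_transpose),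
        h'.isTensorPowerFormStructure, H9.SpT.eq_inf_of_max hH h'.le
          ((H8.hasE_spGL (by norm_num)).not_le_tensorWreathSubgroup le_rfl (by norm_num) e' P')⟩
  · iterate 8 right
    exact Or.inl h
  · obtain rfl : k = 3 := (Nat.pow_right_injective le_rfl (h1 : 2 ^ 3 = 2 ^ k)).symm
    iterate 9 right
    exact Or.inl h
  · have h4 : (2 * k) ^ 3 ≤ 2 ^ 3 := by
      rcases Nat.eq_zero_or_pos k with rfl | hk
      · simp
      · exact (Nat.pow_le_pow_right (by omega) h2).trans h1.ge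
    have h5 : k ≠ 0 := by
      rintro rfl
      rw [mul_zero, zero_pow (by omega)] at h1
      omega
    obtain rfl : k = 1 := by have := (Nat.pow_le_pow_iff_left (by norm_num)).1 h4; omega
    obtain rfl : t = 3 := (Nat.pow_right_injective le_rfl (h1 : 2 ^ 3 = 2 ^ t)).symm
    iterate 10 right
    exact Or.inl ⟨h0, h3 rfl, h⟩
  · iterate 11 right
    exact Or.inl h
  · iterate 12 right
    exact h

end Cfsg.Agent.S5823
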