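import Cfsg.Statements.S5847
import Cfsg.Agent.H8.OTab4

set_option autoImplicit false
open Cfsg

namespace Cfsg.Agent.S5847

open Cfsg.Agent.H8

/-- Every maximal subgroup of Ω_10^+(q) is of one of the listed geometric types or lies in the residual class. Let F be a finite field with q elements (characteristic p), Q a non-degenerate quadratic form on F^10 of plus type (Witt index 5: some totally singular 5-space), Ω the commutator subgroup of its isometry group, and H a maximal subgroup of Ω (inside GL_10(F)). Then H is the intersection with Ω of one of: the stabiliser of a non-zero totally singular subspace of dimension ≠ 4; for q odd, the stabiliser of a non-degenerate subspace of odd dimension ≠ 5; the stabiliser of a non-degenerate 2-space of minus type; for q ≥ 4, the stabiliser of a non-degenerate 2-space of plus type; the stabiliser of a non-degenerate 4-space; for q even, the stabiliser of the span of a non-singular vector;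 for q = p prime with p ≡ 1 mod 4, the stabiliser of a decomposition into 10 pairwise orthogonal, pairwise isometric non-degenerate 1-spaces; for q ≥ 7, the stabiliser of a decomposition into 5 pairwise orthogonal, pairwise isometric non-degenerate 2-spaces; for q ≡ 1 mod 4, the stabiliser of a decomposition into 2 pairwise orthogonal, pairwise isometric non-degenerate 5-spaces; for q ≡ 3 mod 4, the stabiliser of a decomposition into two orthogonal, non-isometric non-degenerate 5-spaces; for q odd, the normaliser of a degree-2 subfield of the matrix algebra, self-adjoint for the polar form; a subfield group (|F| = |F₀|^r, r prime) whose F₀-structure carries a non-zero multiple of Q — or else H lies in the residual class of the orthogonal case (modulo scalars H is almost simple, with absolutely irreducible perfect socle preimage realisable over no proper subfield and fixing no non-degenerate unitary form). -/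
theorem result {F : Type*} [Field F] [Fintype F] (Q : (Fin 10 → F) → F) (hQ : Cfsg.Geo.IsNondegenerateQuadraticForm Q) (hplus : Cfsg.Geo.IsPlusTypeOn Q ⊤) (H : Subgroup (Matrix.GeneralLinearGroup (Fin 10) F)) (hH : Cfsg.Geo.IsMaximalIn (Cfsg.Geo.omegaGL Q) H) :
    (∃ W : Submodule F (Fin 10 → F), W ≠ ⊥ ∧ Cfsg.Geo.IsTotallySingularQuad Q W ∧ Module.finrank F W ≠ 4 ∧ H = Cfsg.Geo.subspaceStabilizer W ⊓ Cfsg.Geo.omegaGL Q) ∨
    (Odd (Fintype.card F) ∧ ∃ W : Submodule F (Fin 10 → F), W ≠ ⊥ ∧ W ≠ ⊤ ∧ Odd (Module.finrank F W) ∧ 2 * Module.finrank F W ≠ 10 ∧ Cfsg.Geo.IsNondegenerateOn (QuadraticMap.polar Q) W ∧ H = Cfsg.Geo.subspaceStabilizer W ⊓ Cfsg.Geo.omegaGL Q) ∨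
    (∃ W : Submodule F (Fin 10 → F), Module.finrank F W = 2 ∧ Cfsg.Geo.IsNondegenerateOn (QuadraticMap.polar Q) W ∧ ¬ Cfsg.Geo.IsPlusTypeOn Q W ∧ H = Cfsg.Geo.subspaceStabilizer W ⊓ Cfsg.Geo.omegaGL Q) ∨
    (4 ≤ Fintype.card F ∧ ∃ W : Submodule F (Fin 10 → F), Module.finrank F W = 2 ∧ Cfsg.Geo.IsNondegenerateOn (QuadraticMap.polar Q) W ∧ Cfsg.Geo.IsPlusTypeOn Q W ∧ H = Cfsg.Geo.subspaceStabilizer W ⊓ Cfsg.Geo.omegaGL Q) ∨
    (∃ W : Submodule F (Fin 10 → F), Module.finrank F W = 4 ∧ Cfsg.Geo.IsNondegenerateOn (QuadraticMap.polar Q) W ∧ H = Cfsg.Geo.subspaceStabilizer W ⊓ Cfsg.Geo.omegaGL Q) ∨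
    (¬ Odd (Fintype.card F) ∧ ∃ v : (Fin 10 → F), Q v ≠ 0 ∧ H = Cfsg.Geo.subspaceStabilizer (Submodule.span F {v}) ⊓ Cfsg.Geo.omegaGL Q) ∨
    ((∃ p : ℕ, p.Prime ∧ Fintype.card F = p ∧ (p % 4 = 1)) ∧ ∃ D : Fin 10 → Submodule F (Fin 10 → F), Cfsg.Geo.IsOrthogonalMDecomposition Q 1 D ∧ H = Cfsg.Geo.decompositionStabilizer D ⊓ Cfsg.Geo.omegaGL Q) ∨
    (7 ≤ Fintype.card F ∧ ∃ D : Fin 5 → Submodule F (Fin 10 → F), Cfsg.Geo.IsOrthogonalMDecomposition Q 2 D ∧ H = Cfsg.Geo.decompositionStabilizer D ⊓ Cfsg.Geo.omegaGL Q) ∨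
    (Fintype.card F % 4 = 1 ∧ ∃ D : Fin 2 → Submodule F (Fin 10 → F), Cfsg.Geo.IsOrthogonalMDecomposition Q 5 D ∧ H = Cfsg.Geo.decompositionStabilizer D ⊓ Cfsg.Geo.omegaGL Q) ∨
    (Fintype.card F % 4 = 3 ∧ ∃ D : Fin 2 → Submodule F (Fin 10 → F), Cfsg.Geo.IsNondegenerateMDecomposition (QuadraticMap.polar Q) 5 D ∧ ¬ Cfsg.Geo.AreIsometricFor Q (D 0) (D 1) ∧ H = Cfsg.Geo.decompositionStabilizer D ⊓ Cfsg.Geo.omegaGL Q) ∨
    (Odd (Fintype.card F) ∧ ∃ K : Subalgebra F (Matrix (Fin 10) (Fin 10) F), Cfsg.Geo.IsFieldSubalgebra 2 K ∧ Cfsg.Geo.IsSelfAdjointFor (QuadraticMap.polar Q) K ∧ H = Cfsg.Geo.subalgebraNormalizer K ⊓ Cfsg.Geo.omegaGL Q) ∨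
    (∃ (F₀ : Subfield F) (r : ℕ) (P : Matrix.GeneralLinearGroup (Fin 10) F) (ζ : F), r.Prime ∧ Fintype.card F = Nat.card F₀ ^ r ∧ ζ ≠ 0 ∧ Cfsg.Geo.IsQuadFormRationalStructure (fun v : Fin 10 → F => ζ * Q v) F₀ P ∧ H = Cfsg.Geo.subfieldSubgroup F₀ P ⊓ Cfsg.Geo.omegaGL Q) ∨
    Cfsg.Geo.InOrthogonalResidualClass H := by
  have hp : Plus (toQF hQ) ⊤ := hplus
  rcases oeven_max (nd_toQF hQ) (n := 10) (by simp) (by decide) (by norm_num) (by norm_num) hH with
    ⟨W, h1, h2, h3, h⟩ | h | h | h | h | ⟨m, h1, D, h2, -, h3, -, h⟩ | h |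
    ⟨t, k, h1, h2, D, h5, h7, h3, -, h4, -, h8, -, h⟩ | ⟨-, m, h1, h2, -⟩ |
    ⟨r, h1, h2, h3, h4, K, h5, h6, h⟩ |
    ⟨h, -⟩ | ⟨-, -, b, h1, h2, -⟩ | ⟨h, -⟩ | ⟨F₀, r, P, ζ, h1, -, h⟩ | ⟨h, -⟩ | h
  · exact Or.inl ⟨W, h1, h2, fun h4 => h3 hp (by omega), h⟩
  · exact Or.inr (Or.inl h)
  · exact Or.inr (Or.inr (Or.inl h))
  · iterate 3 right
    exact Or.inl h
  · iterate 4 right
    exact Or.inl h
  · obtain rfl : m = 5 := by omega
    obtain ⟨h4, h5⟩ := h3 (by decide)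
    rw [Nat.odd_iff] at h4
    by_cases h6 : Fintype.card F % 4 = 1
    · iterate 8 right
      exact Or.inl ⟨h6, D, od_of_isom h2 ((h5.1 hp).2 h6), h⟩
    · iterate 9 right
      exact Or.inl ⟨by omega, D, h2, fun h7 => h6 ((h5.1 hp).1 h7), h⟩
  · iterate 5 right
    exact Or.inl h
  · have : t ≤ 10 := by nlinarith [Nat.pos_of_ne_zero (n := k) (by rintro rfl; omega)]
    obtain ⟨rfl, rfl⟩ | ⟨rfl, rfl⟩ | ⟨rfl, rfl⟩ : (t = 2 ∧ k = 5) ∨
        (t = 5 ∧ k = 2) ∨ (t = 10 ∧ k = 1) := by interval_cases t <;> omega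
    · iterate 8 right
      exact Or.inl ⟨((h4 (by decide)).2.1 hp).resolve_right (by decide), D, h5, h⟩
    · iterate 7 right
      exact Or.inl ⟨h8 rfl (((h3 (by decide)).1 hp).resolve_right (by decide)), D, h5, h⟩
    · iterate 6 right
      exact Or.inl ⟨⟨_, h7 rfl, rfl, ((h4 (by decide)).2.1 hp).resolve_right (by decide)⟩, D, h5, h⟩
  · obtain rfl : m = 5 := by omega
    exact absurd h2 (by decide)
  · obtain ⟨h7, rfl⟩ | ⟨h7, -⟩ := field_ten (nd_toQF hQ) (by simp) hH h1 h2 h3 h4 h5 h6 h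
    · iterate 10 right
      exact Or.inl ⟨h7, K, h5, h6, h⟩
    · exact absurd hp h7
  · exact absurd (h.1 hp) (by decide)
  · obtain rfl : b = 5 := by omega
    exact absurd h2 (by decide)
  · omega
  · iterate 11 right
    exact Or.inl ⟨F₀, r, P, ζ, h1, h⟩
  · omega
  · iterate 12 right
    exact h

end Cfsg.Agent.S5847
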